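import Groth.Agent.Lib.FlatStrat.Good
import Groth.Agent.Lib.BCCoh.Flat

/-! # Flatness of base-changed sections from flatness of the base change -/

set_option autoImplicit false
set_option linter.style.haveILetI false
set_option maxHeartbeats 1000000
universe u

open CategoryTheory CategoryTheory.Limits AlgebraicGeometry TensorProduct TopologicalSpace

namespace GrothLib.FlatGen5

/-- If a base change is flat over the new base, so are the base-changed sections on affine charts. -/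
theorem flat_tensor_of_isFlatOver {X Y X' Y' : Scheme.{u}} {f : X ⟶ Y} {g : Y' ⟶ Y} {p : X' ⟶ X} {q : X' ⟶ Y'}
    (sq : IsPullback p q f g) (M : X.Modules) [M.IsQuasicoherent]
    (hflat : FlatMod.IsFlatOver q ((Scheme.Modules.pullback p).obj M))
    {V₀ : Y.Opens} (hV₀ : IsAffineOpen V₀)
    {U₀ : X.Opens} (hU₀ : IsAffineOpen U₀) (eU : U₀ ≤ f ⁻¹ᵁ V₀) {V : Y'.Opens} (hV : IsAffineOpen V)
    (eV : V ≤ g ⁻¹ᵁ V₀) :
    letI : Algebra Γ(Y, V₀) Γ(Y', V) := (g.appLE V₀ V eV).hom.toAlgebra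
    letI : Module Γ(Y, V₀) Γ(M, U₀) := Module.compHom _ (f.appLE V₀ U₀ eU).hom
    Module.Flat Γ(Y', V) (Γ(Y', V) ⊗[Γ(Y, V₀)] Γ(M, U₀)) := by
  let U := p ⁻¹ᵁ U₀ ⊓ q ⁻¹ᵁ V
  have hU : IsAffineOpen U := FlatLimit.isAffineOpen_square sq eV eU hV₀ hV hU₀
  letI : Algebra Γ(Y, V₀) Γ(Y', V) := (g.appLE V₀ V eV).hom.toAlgebra
  let : Algebra Γ(Y, V₀) Γ(X, U₀) := (f.appLE V₀ U₀ eU).hom.toAlgebra
  let : Algebra Γ(Y', V) Γ(X', U) := (q.appLE V U inf_le_right).hom.toAlgebra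
  let : Algebra Γ(X, U₀) Γ(X', U) := (p.appLE U₀ U inf_le_left).hom.toAlgebra
  let : Algebra Γ(Y, V₀) Γ(X', U) :=
    ((algebraMap Γ(Y', V) Γ(X', U)).comp (algebraMap Γ(Y, V₀) Γ(Y', V))).toAlgebra
  have : IsScalarTower Γ(Y, V₀) Γ(Y', V) Γ(X', U) := IsScalarTower.of_algebraMap_eq' rfl
  have : IsScalarTower Γ(Y, V₀) Γ(X, U₀) Γ(X', U) := IsScalarTower.of_algebraMap_eq' (by
    show ((q.appLE V U inf_le_right).hom.comp (g.appLE V₀ V eV).hom) =
      (p.appLE U₀ U inf_le_left).hom.comp (f.appLE V₀ U₀ eU).hom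
    rw [← CommRingCat.hom_comp, ← CommRingCat.hom_comp, Scheme.Hom.appLE_comp_appLE, Scheme.Hom.appLE_comp_appLE]
    congr 2
    exact sq.w.symm)
  have hpush : Algebra.IsPushout Γ(Y, V₀) Γ(Y', V) Γ(X, U₀) Γ(X', U) :=
    FlatLimit.isPushout_square sq eV eU hV₀ hV hU₀ rfl rfl rfl rfl
  letI : Module Γ(Y, V₀) Γ(M, U₀) := Module.compHom _ (f.appLE V₀ U₀ eU).hom
  have : IsScalarTower Γ(Y, V₀) Γ(X, U₀) Γ(M, U₀) := IsScalarTower.of_algebraMap_smul fun _ _ => rfl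
  have : SMulCommClass Γ(X, U₀) Γ(Y', V) Γ(X', U) := ⟨fun a b x => by
    rw [Algebra.smul_def a, Algebra.smul_def b, Algebra.smul_def b, Algebra.smul_def a]
    exact mul_left_comm _ _ _⟩
  have : IsScalarTower Γ(Y', V) Γ(X', U) (Γ(X', U) ⊗[Γ(X, U₀)] Γ(M, U₀)) := TensorProduct.isScalarTower_left
  have hb : Module.Flat Γ(Y', V) (Γ(X', U) ⊗[Γ(X, U₀)] Γ(M, U₀)) := by
    refine Module.flat_of_isLocalized_maximal Γ(X', U) _
      (fun P _ => LocalizedModule P.primeCompl (Γ(X', U) ⊗[Γ(X, U₀)] Γ(M, U₀)))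
      (fun P _ => LocalizedModule.mkLinearMap _ _) fun P hP => ?_
    obtain ⟨x, hx, hxP⟩ := AssPts.exists_point hU P hP.isPrime
    exact FlatFP.flat_localized_prime_congr hxP
      ((FlatFP.isFlatOverAt_pullback_iff q p M hU₀ hV hU inf_le_left inf_le_right hx rfl rfl).1 (hflat x))
  exact Module.Flat.of_linearEquiv
    (Algebra.IsPushout.cancelBaseChange Γ(Y, V₀) Γ(Y', V) Γ(X, U₀) Γ(X', U) Γ(M, U₀)).symm

end GrothLib.FlatGen5
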