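import Groth.Agent.Lib.FlatStrat.Ring
import Mathlib.RingTheory.Flat.EquationalCriterion
import Mathlib.RingTheory.Spectrum.Prime.Topology
import Mathlib.RingTheory.Noetherian.Nilpotent

/-! # The flattening ideal near the generic point of an irreducible base -/

set_option autoImplicit false
set_option linter.style.haveILetI false
universe u

open TensorProduct

namespace GrothLib.FlatGen5

/-- If `M` is free modulo a nilpotent ideal `N`, there is a universal flattening ideal inside `N`. -/
theorem exists_flatteningIdeal {R : Type u} [CommRing R] (N : Ideal R) (hN : IsNilpotent N)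
    (M : Type u) [AddCommGroup M] [Module R M] [Module.Free (R ⧸ N) ((R ⧸ N) ⊗[R] M)] :
    ∃ J₀ : Ideal R, J₀ ≤ N ∧ ∀ (R' : Type u) [CommRing R'] [Algebra R R'],
      Module.Flat R' (R' ⊗[R] M) ↔ J₀.map (algebraMap R R') = ⊥ := by
  classical
  let ι := Module.Free.ChooseBasisIndex (R ⧸ N) ((R ⧸ N) ⊗[R] M)
  let b := Module.Free.chooseBasis (R ⧸ N) ((R ⧸ N) ⊗[R] M)
  have hm : ∀ i, ∃ m : M, (1 : R ⧸ N) ⊗ₜ[R] m = b i := fun i => by
    obtain ⟨m, hm⟩ := TensorProduct.mk_surjective R M (R ⧸ N) Ideal.Quotient.mk_surjective (b i)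
    exact ⟨m, hm⟩
  choose m hm using hm
  let φ : (ι →₀ R) →ₗ[R] M := Finsupp.linearCombination R m
  have hφ : ∀ x : ι →₀ R, (1 : R ⧸ N) ⊗ₜ[R] φ x =
      x.sum fun i c => (Ideal.Quotient.mk N c) • b i := fun x => by
    simp only [φ, Finsupp.linearCombination_apply, Finsupp.sum, TensorProduct.tmul_sum, ← hm]
    refine Finset.sum_congr rfl fun i _ => ?_
    rw [TensorProduct.tmul_smul]
    exact (algebraMap_smul (R ⧸ N) (x i) _).symm
  obtain ⟨k, hk⟩ := hN
  have hpow : ∀ j : ℕ, LinearMap.range φ ⊔ N ^ j • (⊤ : Submodule R M) = ⊤ := by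
    have h1 : LinearMap.range φ ⊔ N • (⊤ : Submodule R M) = ⊤ := by
      rw [eq_top_iff]
      intro y _
      obtain ⟨c, hc⟩ : ∃ c : ι →₀ R, (1 : R ⧸ N) ⊗ₜ[R] φ c = (1 : R ⧸ N) ⊗ₜ[R] y := by
        choose r hr using fun i => Ideal.Quotient.mk_surjective (b.repr ((1 : R ⧸ N) ⊗ₜ[R] y) i)
        refine ⟨Finsupp.onFinset (b.repr ((1 : R ⧸ N) ⊗ₜ[R] y)).support
          (fun i => if b.repr ((1 : R ⧸ N) ⊗ₜ[R] y) i = 0 then 0 else r i) (fun i hi => by
            rw [Finsupp.mem_support_iff]; intro h; rw [if_pos h] at hi; exact hi rfl), ?_⟩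
        rw [hφ, Finsupp.onFinset_sum _ (by simp)]
        refine Eq.trans ?_ (b.linearCombination_repr _)
        rw [Finsupp.linearCombination_apply, Finsupp.sum]
        refine Finset.sum_congr rfl fun i hi => ?_
        rw [if_neg (Finsupp.mem_support_iff.1 hi), hr]
      have h0 : (1 : R ⧸ N) ⊗ₜ[R] (y - φ c) = 0 := by rw [TensorProduct.tmul_sub, hc, sub_self]
      have h2 : y - φ c ∈ N • (⊤ : Submodule R M) := by
        have := congrArg (TensorProduct.quotTensorEquivQuotSMul M N) h0
        rw [map_zero] at this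
        rw [← Submodule.Quotient.mk_eq_zero, ← this]
        rw [show (1 : R ⧸ N) = Ideal.Quotient.mk N 1 from rfl,
          TensorProduct.quotTensorEquivQuotSMul_mk_tmul, one_smul]
      exact Submodule.mem_sup.2 ⟨φ c, ⟨c, rfl⟩, y - φ c, h2, add_sub_cancel _ _⟩
    intro j
    induction j with
    | zero => simp
    | succ j ih =>
      refine eq_top_iff.2 (le_of_eq_of_le ih.symm (sup_le le_sup_left ?_))
      calc N ^ j • (⊤ : Submodule R M)
          = N ^ j • (LinearMap.range φ ⊔ N • (⊤ : Submodule R M)) := by rw [h1]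
        _ = N ^ j • LinearMap.range φ ⊔ N ^ (j + 1) • (⊤ : Submodule R M) := by
            rw [Submodule.smul_sup, ← mul_smul, pow_succ]
        _ ≤ _ := sup_le_sup_right Submodule.smul_le_right _
  have hsurj : Function.Surjective φ := by
    rw [← LinearMap.range_eq_top, ← hpow k, hk]
    simp
  let J₀ : Ideal R := Ideal.span {c | ∃ x : ι →₀ R, φ x = 0 ∧ ∃ i, x i = c}
  have hker : ∀ x : ι →₀ R, φ x = 0 → ∀ i, x i ∈ N := fun x hx i => by
    have h0 := hφ x
    rw [hx, TensorProduct.tmul_zero] at h0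
    have h1 : b.repr (x.sum fun i c => (Ideal.Quotient.mk N c) • b i) i = Ideal.Quotient.mk N (x i) := by
      simp +contextual [Finsupp.sum, Finsupp.single_apply]
    rw [← h0, map_zero] at h1
    exact Ideal.Quotient.eq_zero_iff_mem.1 h1.symm
  refine ⟨J₀, Ideal.span_le.2 fun c ⟨x, hx, i, hi⟩ => hi ▸ hker x hx i, fun R' _ _ => ?_⟩
  let ψ : (ι →₀ R') →ₗ[R'] R' ⊗[R] M := Finsupp.linearCombination R' fun i => (1 : R') ⊗ₜ[R] m i
  have hψs : Function.Surjective ψ := fun z => by
    induction z with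
    | zero => exact ⟨0, map_zero _⟩
    | add p q hp hq =>
      obtain ⟨a, rfl⟩ := hp
      obtain ⟨a', rfl⟩ := hq
      exact ⟨a + a', map_add _ _ _⟩
    | tmul r y =>
      obtain ⟨c, rfl⟩ := hsurj y
      refine ⟨r • c.mapRange (algebraMap R R') (map_zero _), ?_⟩
      rw [map_smul, Finsupp.linearCombination_apply, Finsupp.sum_mapRange_index (by simp)]
      simp only [φ, Finsupp.linearCombination_apply, Finsupp.sum, TensorProduct.tmul_sum, Finset.smul_sum]
      refine Finset.sum_congr rfl fun i _ => ?_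
      rw [TensorProduct.smul_tmul', TensorProduct.smul_tmul', TensorProduct.tmul_smul, TensorProduct.smul_tmul']
      simp [Algebra.smul_def, mul_comm]
  have hψx : ∀ x : ι →₀ R, φ x = 0 → ψ (x.mapRange (algebraMap R R') (map_zero _)) = 0 := fun x hx => by
    rw [Finsupp.linearCombination_apply, Finsupp.sum_mapRange_index (by simp)]
    have : (1 : R') ⊗ₜ[R] φ x = 0 := by rw [hx, TensorProduct.tmul_zero]
    rw [← this]
    simp only [φ, Finsupp.linearCombination_apply, Finsupp.sum, TensorProduct.tmul_sum]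
    refine Finset.sum_congr rfl fun i _ => ?_
    rw [TensorProduct.tmul_smul, TensorProduct.smul_tmul', TensorProduct.smul_tmul']
    simp [Algebra.smul_def]
  constructor
  · intro hflat
    let N' := N.map (algebraMap R R')
    let K := LinearMap.ker ψ
    -- coordinates of the kernel lie in `N'`
    have hKN : ∀ x ∈ K, ∀ i, x i ∈ N' := fun x hx i => by
      let ev : R' ⊗[R] M →ₗ[R] (R' ⧸ N') :=
        TensorProduct.lift (LinearMap.mk₂ R
          (fun r y => Ideal.Quotient.mk N' r * ((Ideal.Quotient.lift N ((Ideal.Quotient.mk N').comp (algebraMap R R'))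
            (fun a ha => Ideal.Quotient.eq_zero_iff_mem.2 (Ideal.mem_map_of_mem _ ha)))
              (b.repr ((1 : R ⧸ N) ⊗ₜ[R] y) i)))
          (fun r s y => by simp [add_mul])
          (fun c r y => by
            rw [Algebra.smul_def, map_mul, mul_assoc, Algebra.smul_def]
            rfl)
          (fun r y z => by simp [TensorProduct.tmul_add, mul_add])
          (fun c r y => by
            rw [TensorProduct.tmul_smul, ← algebraMap_smul (R ⧸ N) c ((1 : R ⧸ N) ⊗ₜ[R] y), map_smul,
              Finsupp.smul_apply, smul_eq_mul, map_mul, Ideal.Quotient.algebraMap_eq, Ideal.Quotient.lift_mk,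
              Algebra.smul_def]
            rw [← mul_assoc, mul_comm (Ideal.Quotient.mk N' r), mul_assoc]
            rfl))
      have h0 : ev (ψ x) = 0 := by rw [LinearMap.mem_ker.1 hx, map_zero]
      rw [Finsupp.linearCombination_apply, Finsupp.sum, map_sum] at h0
      have h1 : ∀ j, ev (x j • ((1 : R') ⊗ₜ[R] m j)) =
          if j = i then Ideal.Quotient.mk N' (x j) else 0 := fun j => by
        rw [TensorProduct.smul_tmul', smul_eq_mul, mul_one]
        show Ideal.Quotient.mk N' (x j) * _ = _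
        rw [hm, b.repr_self, Finsupp.single_apply]
        split <;> simp
      simp only [h1, Finset.sum_ite_eq'] at h0
      split at h0
      · exact Ideal.Quotient.eq_zero_iff_mem.1 h0
      · rename_i hi
        rw [Finsupp.notMem_support_iff.1 hi]
        exact zero_mem _
    have hK1 : K ≤ N' • K := fun x hx => by
      have h0 : ∑ i : x.support, x i • ((1 : R') ⊗ₜ[R] m (i : ι)) = 0 := by
        rw [Finset.sum_coe_sort x.support fun i => x i • ((1 : R') ⊗ₜ[R] m i)]
        exact LinearMap.mem_ker.1 hx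
      obtain ⟨q, a, y, hy, ha⟩ := Module.Flat.isTrivialRelation_of_sum_smul_eq_zero h0
      choose z hz using fun j => hψs (y j)
      let w : x.support → (ι →₀ R') := fun i => Finsupp.single (i : ι) 1 - ∑ j, a i j • z j
      have hw : ∀ i, w i ∈ K := fun i => by
        simp [K, w, map_sum, hz, ← hy i, ψ]
      have hx' : x = ∑ i : x.support, x i • w i := by
        simp only [w, smul_sub, Finset.sum_sub_distrib, Finset.smul_sum, smul_smul]
        rw [Finset.sum_comm, Finset.sum_eq_zero (f := fun j => ∑ i : x.support, (x i * a i j) • z j)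
          (fun j _ => by rw [← Finset.sum_smul, ha j, zero_smul]), sub_zero,
          Finset.sum_coe_sort x.support fun i => x i • Finsupp.single i (1 : R')]
        conv_lhs => rw [← Finsupp.sum_single x]
        exact Finset.sum_congr rfl fun i _ => by simp
      rw [hx']
      exact Submodule.sum_mem _ fun i _ => Submodule.smul_mem_smul (hKN x hx i) (hw i)
    have hK : K = ⊥ := by
      have : ∀ j, K ≤ N' ^ j • K := fun j => by
        induction j with
        | zero => simp
        | succ j ih =>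
          rw [pow_succ, mul_smul]
          exact ih.trans (Submodule.smul_mono le_rfl hK1)
      have h := this k
      rw [← Ideal.map_pow, hk, Ideal.zero_eq_bot, Ideal.map_bot, Submodule.bot_smul] at h
      exact le_bot_iff.1 h
    rw [Ideal.map_eq_bot_iff_le_ker, Ideal.span_le]
    rintro c ⟨x, hx, i, rfl⟩
    have := (LinearMap.ker_eq_bot'.1 hK) _ (hψx x hx)
    exact (by simpa using DFunLike.congr_fun this i : algebraMap R R' (x i) = 0)
  · intro hJ
    let Φ : R' ⊗[R] (ι →₀ R) →ₗ[R'] R' ⊗[R] M := φ.baseChange R'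
    have hinj : Function.Injective Φ := by
      rw [injective_iff_map_eq_zero]
      intro z hz
      have hex :=
        lTensor_exact (M := LinearMap.ker φ) (N := ι →₀ R) (f := (LinearMap.ker φ).subtype) (g := φ) R' (LinearMap.exact_subtype_ker_map φ) hsurj
      obtain ⟨t, rfl⟩ : ∃ t, (LinearMap.ker φ).subtype.lTensor R' t = z := (hex z).1 hz
      clear hz
      induction t with
      | zero => rw [map_zero]
      | add p q hp hq => rw [map_add, hp, hq, add_zero]
      | tmul r y =>
        apply (TensorProduct.finsuppScalarRight R R' R' ι).injective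
        ext i
        rw [LinearMap.lTensor_tmul, TensorProduct.finsuppScalarRight_apply_tmul_apply, map_zero]
        have h0 : algebraMap R R' ((y : ι →₀ R) i) = 0 := by
          rw [Ideal.map_eq_bot_iff_le_ker] at hJ
          exact hJ (Ideal.subset_span ⟨y, y.2, i, rfl⟩)
        simp [Algebra.smul_def, h0]
    have hbij : Function.Bijective Φ := ⟨hinj, LinearMap.lTensor_surjective R' hsurj⟩
    exact Module.Flat.of_linearEquiv (LinearEquiv.ofBijective Φ hbij).symm

/-- `h` and `J` describe the flatness of the base changes of `M` over the open where `h` is invertible. -/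
def Good (A : Type u) [CommRing A] (M : Type u) [AddCommGroup M] [Module A M] (h : A) (J : Ideal A) : Prop :=
  ∀ (A' : Type u) [CommRing A'] [Algebra A A'], IsUnit (algebraMap A A' h) →
    (Module.Flat A' (A' ⊗[A] M) ↔ J.map (algebraMap A A') = ⊥)

/-- Near the generic point of an irreducible affine base a flattening ideal exists. -/
theorem exists_good (A B M : Type u) [CommRing A] [IrreducibleSpace (PrimeSpectrum A)]
    [CommRing B] [Algebra A B] [Algebra.FinitePresentation A B]
    [AddCommGroup M] [Module B M] [Module A M] [IsScalarTower A B M] [Module.FinitePresentation B M] :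
    ∃ (h : A) (J : Ideal A), ¬ IsNilpotent h ∧ J.FG ∧ J ≤ nilradical A ∧ Good A M h J := by
  classical
  obtain ⟨A₀, _, _, B₀, _, _, e, M₀, _, _, hA₀, hB₀, hM₀, ⟨eM⟩⟩ := Approx6.exists_module_model A B M
  letI algB : Algebra B₀ B :=
    (e.toRingEquiv.toRingHom.comp Algebra.TensorProduct.includeRight.toRingHom).toAlgebra
  letI : Module A₀ M₀ := Module.compHom M₀ (algebraMap A₀ B₀)
  haveI : IsScalarTower A₀ B₀ M₀ := IsScalarTower.of_algebraMap_smul fun _ _ => rfl
  letI : Algebra A₀ B := ((algebraMap A B).comp (algebraMap A₀ A)).toAlgebra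
  haveI : IsScalarTower A₀ A B := IsScalarTower.of_algebraMap_eq fun _ => rfl
  haveI : IsScalarTower A₀ B₀ B := IsScalarTower.of_algebraMap_eq fun x => by
    show algebraMap A B (algebraMap A₀ A x) = e (1 ⊗ₜ algebraMap A₀ B₀ x)
    rw [← e.commutes]
    congr 1
    exact ((Algebra.TensorProduct.includeRight : B₀ →ₐ[A₀] A ⊗[A₀] B₀).commutes x).symm
  haveI : Algebra.IsPushout A₀ A B₀ B := ⟨IsBaseChange.of_equiv e.toLinearEquiv fun x => rfl⟩
  let eA : M ≃ₗ[A] A ⊗[A₀] M₀ :=
    (eM.symm.restrictScalars A).trans (Algebra.IsPushout.cancelBaseChange A₀ A B₀ B M₀)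
  haveI : IsNoetherianRing A₀ := Algebra.FiniteType.isNoetherianRing ℤ A₀
  haveI hnp : (nilradical A).IsPrime := PrimeSpectrum.irreducibleSpace_iff_isPrime_nilradical.1 ‹_›
  let P : Ideal A₀ := (nilradical A).comap (algebraMap A₀ A)
  haveI : P.IsPrime := Ideal.IsPrime.comap _
  obtain ⟨k, hk⟩ : IsNilpotent (P.map (algebraMap A₀ A)) :=
    (Ideal.FG.isNilpotent_iff_le_nilradical (Ideal.FG.map (IsNoetherian.noetherian P) _)).2 Ideal.map_comap_le
  let D := A₀ ⧸ P
  letI : Algebra B₀ (D ⊗[A₀] B₀) := Algebra.TensorProduct.rightAlgebra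
  haveI : Module.Finite (D ⊗[A₀] B₀) ((D ⊗[A₀] B₀) ⊗[B₀] M₀) := Module.Finite.base_change B₀ (D ⊗[A₀] B₀) M₀
  obtain ⟨f, -, hf, hfree, -, -, -⟩ :=
    GenFree.exists_free_and_finitePresentation (R := D) (D ⊗[A₀] B₀) ((D ⊗[A₀] B₀) ⊗[B₀] M₀) 1 one_ne_zero
  obtain ⟨f₀, rfl⟩ := Ideal.Quotient.mk_surjective f
  have hf₀ : f₀ ∉ P := fun hm => hf (Ideal.Quotient.eq_zero_iff_mem.2 hm)
  let Q := A₀ ⧸ P ^ k
  let R := Localization.Away (Ideal.Quotient.mk (P ^ k) f₀)
  haveI : IsNoetherianRing R := IsLocalization.isNoetherianRing (Submonoid.powers (Ideal.Quotient.mk (P ^ k) f₀)) _ inferInstance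
  have hQR : ∀ a : A₀, algebraMap A₀ R a = algebraMap Q R (Ideal.Quotient.mk (P ^ k) a) := fun a => rfl
  let N : Ideal R := P.map (algebraMap A₀ R)
  have hN : N ^ k = ⊥ := by
    rw [← Ideal.map_pow, Ideal.map_eq_bot_iff_le_ker]
    intro a ha
    rw [RingHom.mem_ker, hQR, Ideal.Quotient.eq_zero_iff_mem.2 ha, map_zero]
  -- `R ⧸ N` is an algebra over `D_f`
  have hPk : ∀ p ∈ P, algebraMap A₀ (R ⧸ N) p = 0 := fun p hp =>
    (Ideal.Quotient.eq_zero_iff_mem).2 (Ideal.mem_map_of_mem _ hp)
  letI : Algebra D (R ⧸ N) := (Ideal.Quotient.lift P (algebraMap A₀ (R ⧸ N)) hPk).toAlgebra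
  haveI : IsScalarTower A₀ D (R ⧸ N) := IsScalarTower.of_algebraMap_eq fun r => rfl
  have hu : IsUnit (algebraMap D (R ⧸ N) (Ideal.Quotient.mk P f₀)) :=
    (IsLocalization.Away.algebraMap_isUnit (S := R) (Ideal.Quotient.mk (P ^ k) f₀)).map (Ideal.Quotient.mk N)
  letI : Algebra (Localization.Away (Ideal.Quotient.mk P f₀)) (R ⧸ N) :=
    (IsLocalization.Away.lift (Ideal.Quotient.mk P f₀) (g := algebraMap D (R ⧸ N)) hu).toAlgebra
  haveI : IsScalarTower D (Localization.Away (Ideal.Quotient.mk P f₀)) (R ⧸ N) :=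
    IsScalarTower.of_algebraMap_eq fun d => (IsLocalization.Away.lift_eq _ _ d).symm
  haveI := hfree
  let eD : (D ⊗[A₀] B₀) ⊗[B₀] M₀ ≃ₗ[D] D ⊗[A₀] M₀ := Algebra.IsPushout.cancelBaseChange A₀ D B₀ (D ⊗[A₀] B₀) M₀
  haveI : Module.Free (R ⧸ N) ((R ⧸ N) ⊗[R] (R ⊗[A₀] M₀)) := Module.Free.of_equiv
    (AlgebraTensorModule.cancelBaseChange D (Localization.Away (Ideal.Quotient.mk P f₀)) (R ⧸ N) (R ⧸ N) _ ≪≫ₗ
      AlgebraTensorModule.congr (LinearEquiv.refl (R ⧸ N) (R ⧸ N)) eD ≪≫ₗ
      AlgebraTensorModule.cancelBaseChange A₀ D (R ⧸ N) (R ⧸ N) M₀ ≪≫ₗ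
      (AlgebraTensorModule.cancelBaseChange A₀ R (R ⧸ N) (R ⧸ N) M₀).symm)
  obtain ⟨J₀, hJN, hJ⟩ := exists_flatteningIdeal N ⟨k, hN⟩ (R ⊗[A₀] M₀)
  let J' : Ideal A₀ := (J₀.comap (algebraMap Q R)).comap (Ideal.Quotient.mk (P ^ k))
  have hJ' : J'.map (algebraMap A₀ R) = J₀ := by
    have h1 : (J'.map (Ideal.Quotient.mk (P ^ k))).map (algebraMap Q R) = J₀ := by
      rw [Ideal.map_comap_of_surjective _ Ideal.Quotient.mk_surjective,
        IsLocalization.map_comap (Submonoid.powers (Ideal.Quotient.mk (P ^ k) f₀))]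
    rw [← h1, Ideal.map_map]
    rfl
  have hker : ∀ a ∈ P ^ k, algebraMap A₀ A a = 0 := fun a ha => by
    have := Ideal.mem_map_of_mem (algebraMap A₀ A) ha
    rwa [Ideal.map_pow, hk] at this
  let h := algebraMap A₀ A f₀
  have hh : ¬ IsNilpotent h := fun hn => hf₀ (Ideal.mem_comap.2 (mem_nilradical.2 hn))
  letI : Algebra R (Localization.Away h) :=
    (IsLocalization.Away.lift (S := R) (Ideal.Quotient.mk (P ^ k) f₀)
      (g := (algebraMap A (Localization.Away h)).comp (Ideal.Quotient.lift (P ^ k) (algebraMap A₀ A) hker))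
      (IsLocalization.Away.algebraMap_isUnit (S := Localization.Away h) h)).toAlgebra
  have hRA : ∀ a : A₀, algebraMap R (Localization.Away h) (algebraMap A₀ R a) =
      algebraMap A (Localization.Away h) (algebraMap A₀ A a) := fun a => by
    rw [hQR]; exact IsLocalization.Away.lift_eq _ _ _
  refine ⟨h, J'.map (algebraMap A₀ A), hh, Ideal.FG.map (IsNoetherian.noetherian J') _, ?_, fun A' _ _ hunit => ?_⟩
  · rw [Ideal.map_le_iff_le_comap]
    intro a ha
    have hn : IsNilpotent (algebraMap A (Localization.Away h) (algebraMap A₀ A a)) := by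
      rw [← hRA]
      refine (IsNilpotent.map ?_ (algebraMap R (Localization.Away h)))
      refine ⟨k, ?_⟩
      rw [← Ideal.mem_bot, ← hN]
      exact Ideal.pow_mem_pow (hJN (hJ' ▸ Ideal.mem_map_of_mem _ ha)) k
    obtain ⟨n, hn⟩ := hn
    rw [← map_pow, IsLocalization.map_eq_zero_iff (Submonoid.powers h)] at hn
    obtain ⟨⟨_, j, rfl⟩, hj⟩ := hn
    have : h ^ j * algebraMap A₀ A a ^ n ∈ nilradical A := by
      rw [show h ^ j * algebraMap A₀ A a ^ n = 0 from hj]; exact zero_mem _
    exact hnp.mem_of_pow_mem _ ((hnp.mem_or_mem this).resolve_left fun hm => hh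
      (mem_nilradical.1 (hnp.mem_of_pow_mem _ hm)))
  · letI : Algebra A₀ A' := ((algebraMap A A').comp (algebraMap A₀ A)).toAlgebra
    haveI : IsScalarTower A₀ A A' := IsScalarTower.of_algebraMap_eq fun _ => rfl
    letI : Algebra R A' :=
      ((IsLocalization.Away.lift (S := Localization.Away h) h (g := algebraMap A A') hunit).comp
        (algebraMap R (Localization.Away h))).toAlgebra
    haveI : IsScalarTower A₀ R A' := IsScalarTower.of_algebraMap_eq fun a => by
      show _ = IsLocalization.Away.lift (S := Localization.Away h) h hunit (algebraMap R _ (algebraMap A₀ R a))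
      rw [hRA, IsLocalization.Away.lift_eq]
      rfl
    let e' : A' ⊗[R] (R ⊗[A₀] M₀) ≃ₗ[A'] A' ⊗[A] M :=
      AlgebraTensorModule.cancelBaseChange A₀ R A' A' M₀ ≪≫ₗ
        (AlgebraTensorModule.congr (LinearEquiv.refl A' A') eA ≪≫ₗ
          AlgebraTensorModule.cancelBaseChange A₀ A A' A' M₀).symm
    rw [Ideal.map_map, ← IsScalarTower.algebraMap_eq, IsScalarTower.algebraMap_eq A₀ R A', ← Ideal.map_map, hJ',
      ← hJ A']
    exact ⟨fun _ => Module.Flat.of_linearEquiv e', fun _ => Module.Flat.of_linearEquiv e'.symm⟩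

/-- Shrinking the open and summing the ideals. -/
theorem Good.finset {A : Type u} [CommRing A] {ι : Type*} (s : Finset ι) (M : ι → Type u)
    [∀ i, AddCommGroup (M i)] [∀ i, Module A (M i)] (h : ι → A) (J : ι → Ideal A) (hg : ∀ i ∈ s, Good A (M i) (h i) (J i))
    (A' : Type u) [CommRing A'] [Algebra A A'] (hu : IsUnit (algebraMap A A' (∏ i ∈ s, h i))) :
    (∀ i ∈ s, Module.Flat A' (A' ⊗[A] M i)) ↔ (s.sup J).map (algebraMap A A') = ⊥ := by
  rw [map_prod, IsUnit.prod_iff] at hu
  rw [Finset.sup_eq_iSup, Ideal.map_iSup]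
  simp only [Ideal.map_iSup, iSup_eq_bot]
  exact forall₂_congr fun i hi => hg i hi A' (hu i hi)

end GrothLib.FlatGen5
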